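import Cfsg.Agent.H701.F43.Cent
import Cfsg.Agent.PRankPar.Inst

/-!
# S2464, `F₄(q)`: the positive root groups centralised by an element of the torus (for helper374, helper520)

* `tor16` : `t ≠ 1` in the torus centralises at most 16 of the 24 positive root groups.
-/

set_option autoImplicit false
set_option linter.unusedSectionVars false

namespace Cfsg.Agent.H962.FC

open CoxeterSystem Cfsg.Agent.ChevalleyStructure.CoxeterGeom Cfsg.Agent.Tits.Roots Cfsg.Agent.Tits.Core
  Cfsg.Agent.Nodes.Reps Cfsg.Agent.Nodes.BNOf Cfsg.Agent.Nodes.RGDChev Cfsg.Agent.KFacts.RgdChevCoord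
open Cfsg.Lie Cfsg.Agent.ChevalleyStructure Cfsg.Agent.ChevalleyStructure.Elts
  Cfsg.Agent.ChevalleyStructure.RootVec Cfsg.Agent.ChevalleyStructure.NPerm
  Cfsg.Agent.ChevalleyStructure.CoxeterGeomTypes
open Cfsg.Agent.H701.F43.Cent (hF cF)

universe u

variable {K : Type u} [Field K] [Finite K]

/-- the character is additive in the root -/
theorem ch_vadd {t : ↥(chevF4.group K)} (ht : t ∈ TT chevF4 K) {r s : ℕ} {i : Fin 4} (hr : r < chevF4.nroots)
    (hs : s < chevF4.nroots) (h : vec chevF4 4 s = vec chevF4 4 r + sr i) :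
    ch hF (vec chevF4 4 s) t = ch hF (vec chevF4 4 r) t * ch hF (sr i) t := by
  obtain ⟨p, hp⟩ := CharP.exists K
  have : Fact p.Prime := ⟨CharP.char_is_prime K p⟩
  have h0 : ∀ j : Fin 4, ch hF (sr j) t ≠ 0 := fun j => by
    rw [← vec_simple hF j]
    exact (act hF (simple_lt hF.inList (lt_rank hF j)) ht).1
  rw [PRankPar.Chev.ch_prod hF cF p _ (isRoot_vec hF cF hs) t ht,
    PRankPar.Chev.ch_prod hF cF p _ (isRoot_vec hF cF hr) t ht]
  conv_rhs => rw [PRankPar.Chev.ch_prod hF cF p (sr i) (isRoot_sr cF hF.isCartan i) t ht]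
  rw [← Finset.prod_mul_distrib, h]
  exact Finset.prod_congr rfl fun j _ => by rw [Pi.add_apply, zpow_add₀ (h0 j)]

theorem ch_of_comm {t : ↥(chevF4.group K)} (ht : t ∈ TT chevF4 K) {r : ℕ} (hr : r < chevF4.nroots)
    (h : ∀ v ∈ XX chevF4 4 K (vec chevF4 4 r), t * v = v * t) : ch hF (vec chevF4 4 r) t = 1 := by
  obtain ⟨p, hp⟩ := CharP.exists K
  have : Fact p.Prime := ⟨CharP.char_is_prime K p⟩
  apply ch_eq hF hr ht
  rw [h _ (((coords (K := K) hF cF p).coord _ (isRoot_vec hF cF hr)).mem _ |>.2 ⟨1, rfl⟩), mul_inv_cancel_right]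

/-- the seven pairs `(b, b + αᵢ)` -/
def prs : Fin 4 → List (ℕ × ℕ) := ![
  [(27, 34), (28, 35), (29, 36), (30, 37), (31, 38), (32, 39), (40, 44)],
  [(25, 28), (33, 34), (26, 29), (35, 37), (36, 38), (39, 40), (43, 44)],
  [(24, 26), (27, 28), (34, 35), (31, 32), (38, 39), (42, 43), (45, 46)],
  [(25, 26), (28, 29), (30, 31), (35, 36), (37, 38), (41, 42), (46, 47)]]

theorem prs_tab : ∀ i : Fin 4, ∀ b ∈ prs i, b.1 < chevF4.nroots ∧ b.2 < chevF4.nroots ∧
    ∀ j : Fin 4, vec chevF4 4 b.2 j = vec chevF4 4 b.1 j + (if j = i then 1 else 0) := by decide +kernel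

theorem simple_tab : ∀ i : Fin 4, chevF4.simple i = (![33, 27, 25, 24] : Fin 4 → ℕ) i := by decide +kernel

theorem cnt (f : ℕ → Bool) : ((List.range' 24 24).filter f).length =
    (f 24).toNat + (f 25).toNat + (f 26).toNat + (f 27).toNat + (f 28).toNat + (f 29).toNat + (f 30).toNat +
    (f 31).toNat + (f 32).toNat + (f 33).toNat + (f 34).toNat + (f 35).toNat + (f 36).toNat + (f 37).toNat +
    (f 38).toNat + (f 39).toNat + (f 40).toNat + (f 41).toNat + (f 42).toNat + (f 43).toNat + (f 44).toNat +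
    (f 45).toNat + (f 46).toNat + (f 47).toNat := by
  have h : ∀ (a : ℕ) (l : List ℕ), ((a :: l).filter f).length = (f a).toNat + (l.filter f).length := by
    intro a l
    rw [List.filter_cons]
    cases f a
    · simp
    · simp [Nat.add_comm]
  show ((24 :: 25 :: 26 :: 27 :: 28 :: 29 :: 30 :: 31 :: 32 :: 33 :: 34 :: 35 :: 36 :: 37 :: 38 :: 39 :: 40 :: 41 ::
    42 :: 43 :: 44 :: 45 :: 46 :: [47] : List ℕ).filter f).length = _
  simp only [h, List.filter_nil, List.length_nil]
  omega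

theorem cnt_le (f : ℕ → Bool) (i : Fin 4) (h0 : f ((![33, 27, 25, 24] : Fin 4 → ℕ) i) = false)
    (h1 : ∀ b ∈ prs i, ¬ (f b.1 = true ∧ f b.2 = true)) : ((List.range' 24 24).filter f).length ≤ 16 := by
  have hle : ∀ n, (f n).toNat ≤ 1 := fun n => Bool.toNat_le _
  have h2 : ∀ b ∈ prs i, (f b.1).toNat + (f b.2).toNat ≤ 1 := by
    intro b hb
    have := h1 b hb
    revert this
    cases f b.1 <;> cases f b.2 <;> simp
  have h3 : (f ((![33, 27, 25, 24] : Fin 4 → ℕ) i)).toNat = 0 := by rw [h0]; rfl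
  rw [cnt]
  have a1 := hle 24
  have a2 := hle 25
  have a3 := hle 26
  have a4 := hle 27
  have a5 := hle 28
  have a6 := hle 29
  have a7 := hle 30
  have a8 := hle 31
  have a9 := hle 32
  have a10 := hle 33
  have a11 := hle 34
  have a12 := hle 35
  have a13 := hle 36
  have a14 := hle 37
  have a15 := hle 38
  have a16 := hle 39
  have a17 := hle 40
  have a18 := hle 41
  have a19 := hle 42
  have a20 := hle 43
  have a21 := hle 44
  have a22 := hle 45
  have a23 := hle 46
  have a24 := hle 47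
  fin_cases i
  all_goals
    simp only [prs, Fin.zero_eta, Fin.mk_one, Fin.reduceFinMk, Matrix.cons_val, List.mem_cons, List.not_mem_nil,
      or_false, forall_eq_or_imp, forall_eq] at h2 h3
    obtain ⟨b1, b2, b3, b4, b5, b6, b7⟩ := h2
    omega

open Classical in
/-- **An element `t ≠ 1` of the torus centralises at most 16 of the 24 positive root groups.** -/
theorem tor16 {t : ↥(chevF4.group K)} (ht : t ∈ TT chevF4 K) (h1 : t ≠ 1) :
    ((List.range' 24 24).filter fun r => decide (∀ v ∈ XX chevF4 4 K (vec chevF4 4 r), t * v = v * t)).length ≤ 16 := by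
  obtain ⟨p, hp⟩ := CharP.exists K
  have : Fact p.Prime := ⟨CharP.char_is_prime K p⟩
  obtain ⟨i, hi⟩ : ∃ i, ch hF (sr i) t ≠ 1 := by
    by_contra hc
    push Not at hc
    exact h1 (PRankPar.Chev.faithful hF cF p t ht hc)
  refine cnt_le _ i ?_ ?_
  · rw [decide_eq_false_iff_not]
    intro hc
    apply hi
    rw [← simple_tab i] at hc
    have h2 := ch_of_comm ht (simple_lt hF.inList (lt_rank hF i)) hc
    rwa [vec_simple hF i] at h2
  · intro b hb hc
    rw [decide_eq_true_eq, decide_eq_true_eq] at hc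
    obtain ⟨hb1, hb2, hb3⟩ := prs_tab i b hb
    have h2 := ch_of_comm ht hb1 hc.1
    have h3 := ch_of_comm ht hb2 hc.2
    have h4 : vec chevF4 4 b.2 = vec chevF4 4 b.1 + sr i := by
      funext j
      rw [hb3 j, Pi.add_apply]
      by_cases hj : j = i
      · subst hj
        rw [if_pos rfl, sr_self]
      · rw [if_neg hj, sr_ne hj]
    rw [ch_vadd ht hb1 hb2 h4, h2, one_mul] at h3
    exact hi h3

end Cfsg.Agent.H962.FC
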