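import Cfsg.Agent.H520.FC.Defs
import Cfsg.Agent.H374.TC.CuDef
import Cfsg.Agent.H744.FC.Par
import Cfsg.Agent.Lib.GoldschmidtFusion

/-!
# S2464, `F₄(q)`, `q = 5, 7, 17`: the mixed elements (for helper520; the bound `C16` is helper374's)

* `card_mixed` : `|C(u s)| ≤ q^16 (q - 1) (q² - 1) (q⁴ - 1) (q⁶ - 1)`;
* `mixed_of`, `mixed10_of` : `Mixed K p` from it, also with the factor 10.
-/

set_option autoImplicit false
set_option linter.unusedSectionVars false

namespace Cfsg.Agent.H962.FC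

open CoxeterSystem Cfsg.Agent.ChevalleyStructure.CoxeterGeom Cfsg.Agent.Tits.Roots Cfsg.Agent.Tits.Core
  Cfsg.Agent.Tits.Exchange Cfsg.Agent.Nodes.Reps Cfsg.Agent.Nodes.BNOf Cfsg.Agent.Nodes.StabComb
  Cfsg.Agent.Nodes.Bruhat Cfsg.Agent.Nodes.OppDec Cfsg.Agent.Nodes.LeviDec Cfsg.Agent.Nodes.NormX
  Cfsg.Agent.Nodes.Coroot Cfsg.Agent.Nodes.RGDChev Cfsg.Agent.KFacts.RgdPar Cfsg.Agent.KFacts.RgdTI
  Cfsg.Agent.KFacts.RgdCent Cfsg.Agent.KFacts.RgdChevCoord Cfsg.Agent.Nodes.ChevCls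
  Cfsg.Agent.OddHalf.NI.ModelChev Cfsg.Agent.H225.PPow
open Cfsg.Lie Cfsg.Agent.ChevalleyStructure Cfsg.Agent.ChevalleyStructure.Elts
  Cfsg.Agent.ChevalleyStructure.RootVec Cfsg.Agent.ChevalleyStructure.NPerm
  Cfsg.Agent.ChevalleyStructure.CoxeterGeomTypes
open Cfsg.Agent.H701.F43.Cent (hF cF comm_theta cent mem_NotJ mem_RootsJ VV MM isRoot_theta)
open Cfsg.Agent.H520.FC
open Cfsg.Agent.H374.TC.Cu (C16)

universe u

/-! ### groups -/

section grp

variable {G : Type*} [Group G]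

/-- commuting elements of coprime orders are powers of their product -/
theorem centralizer_mul_le [Finite G] {u s : G} (h : u * s = s * u) (hc : (orderOf u).Coprime (orderOf s)) :
    Subgroup.centralizer ({u * s} : Set G) ≤ Subgroup.centralizer {u} ⊓ Subgroup.centralizer {s} := by
  have hcm : Commute u s := h
  have key : ∀ {a b : G}, Commute a b → (orderOf a).Coprime (orderOf b) → ∃ k : ℕ, (a * b) ^ k = a := by
    intro a b hab hcop
    obtain ⟨k, h1, h2⟩ := Nat.chineseRemainder hcop 1 0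
    refine ⟨k, ?_⟩
    rw [hab.mul_pow]
    have h3 : a ^ k = a := by
      conv_rhs => rw [← pow_one a]
      exact pow_eq_pow_iff_modEq.2 h1
    have h4 : b ^ k = 1 := by
      rw [← pow_zero b]
      exact pow_eq_pow_iff_modEq.2 h2
    rw [h3, h4, mul_one]
  intro g hg
  rw [Subgroup.mem_centralizer_singleton_iff] at hg
  have hg' : Commute g (u * s) := hg
  obtain ⟨k, hk⟩ := key hcm hc
  obtain ⟨l, hl⟩ := key hcm.symm hc.symm
  rw [Subgroup.mem_inf, Subgroup.mem_centralizer_singleton_iff, Subgroup.mem_centralizer_singleton_iff]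
  constructor
  · have := hg'.pow_right k
    rwa [hk] at this
  · have h5 : s * u = u * s := h.symm
    rw [h5] at hl
    have := hg'.pow_right l
    rwa [hl] at this

/-- the order of a group whose `p`-subgroups have order at most `B` -/
theorem card_le_of_p [Finite G] {p a B M : ℕ} [hp : Fact p.Prime] (H : Subgroup G) (hd : Nat.card ↥H ∣ p ^ a * M)
    (hM : 0 < M) (hB : ∀ R : Subgroup G, R ≤ H → IsPGroup p ↥R → Nat.card ↥R ≤ B) :
    Nat.card ↥H ≤ B * M := by
  obtain ⟨Q⟩ : Nonempty (Sylow p ↥H) := inferInstance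
  have h1 : Nat.card ↥((Q : Subgroup ↥H).map H.subtype) = Nat.card ↥(Q : Subgroup ↥H) :=
    Nat.card_congr ((Q : Subgroup ↥H).equivMapOfInjective H.subtype H.subtype_injective).symm.toEquiv
  have h2 := hB _ (Subgroup.map_subtype_le _) (Q.isPGroup'.map H.subtype)
  rw [h1] at h2
  have h3 : Nat.card ↥(Q : Subgroup ↥H) * (Q : Subgroup ↥H).index = Nat.card ↥H := Subgroup.card_mul_index _
  have h4 : ((Q : Subgroup ↥H).index).Coprime (p ^ a) := by
    refine Nat.Coprime.pow_right a ?_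
    rw [Nat.coprime_comm, hp.out.coprime_iff_not_dvd]
    exact Q.not_dvd_index
  have h5 : (Q : Subgroup ↥H).index ∣ M :=
    h4.dvd_of_dvd_mul_left ((Dvd.intro_left _ h3).trans hd)
  rw [← h3]
  exact Nat.mul_le_mul h2 (Nat.le_of_dvd hM h5)

end grp

variable {K : Type u} [Field K] [Finite K]

/-- the group `U` -/
abbrev UU (K : Type u) [Field K] : Subgroup ↥(chevF4.group K) :=
  RGD.Sup (XX chevF4 4 K) (RGD.Pos cF hF.isCartan)

theorem UU_le (p : ℕ) [Fact p.Prime] [CharP K p] : UU K ≤ VV K ⊔ MM K := by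
  refine RGD.Sup_le fun x hx => ?_
  have h3 : 0 ≤ x 3 := hx.2 3
  rcases h3.lt_or_eq with h4 | h4
  · exact le_trans (RGD.le_Sup (mem_NotJ.2 ⟨hx.1, h4⟩)) le_sup_left
  · exact le_trans (RGD.le_Sup (mem_RootsJ.2 ⟨hx.1, h4.symm⟩)) le_sup_right

theorem UU_le_cent (p : ℕ) [Fact p.Prime] [CharP K p] {u : ↥(chevF4.group K)} (hu : u ∈ XT K) :
    UU K ≤ Subgroup.centralizer {u} := by
  intro g hg
  rw [Subgroup.mem_centralizer_singleton_iff]
  exact comm_theta (UU_le p hg) hu

theorem cent_le (p : ℕ) [Fact p.Prime] [CharP K p] {u : ↥(chevF4.group K)} (hu1 : u ≠ 1) (hu : u ∈ XT K) :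
    Subgroup.centralizer {u} ≤ PK K {k | k ≠ 3} := by
  intro g hg
  rw [Subgroup.mem_centralizer_singleton_iff] at hg
  have C := (coords (K := K) hF cF p).coord _ isRoot_theta
  obtain ⟨c, rfl⟩ := (C.mem _).1 hu
  have hc0 : c ≠ 0 := by
    rintro rfl
    exact hu1 C.zero
  obtain ⟨v, hv, m, hm, rfl⟩ := cent hc0 hg
  have h2 : MM K ≤ PK K {k | k ≠ 3} := by
    refine RGD.Sup_le fun x hx => ?_
    exact le_trans (X_le_LJ hx) LJ_le_PJ
  exact mul_mem (VJ_le_PJ hv) (h2 hm)

/-- the prime to `p` part of the order of the parabolic -/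
def MP (q : ℕ) : ℕ := ((1 + q) * ((1 + q) * (1 + q ^ 2)) * ((1 + q + q ^ 2) * (1 + q ^ 3))) * (q - 1) ^ 4

theorem card_PK : Nat.card ↥(PK K {k | k ≠ 3}) = Nat.card K ^ 24 * MP (Nat.card K) := by
  rw [H744.FC.card_ne3, MP]
  ring

theorem MP_coprime (p : ℕ) [hp : Fact p.Prime] [CharP K p] : ¬ p ∣ MP (Nat.card K) := by
  obtain ⟨n, hn0, hn⟩ : ∃ n, n ≠ 0 ∧ Nat.card K = p ^ n := by
    have := Fintype.ofFinite K
    obtain ⟨n, -, h⟩ := FiniteField.card K p
    exact ⟨n, n.2.ne', by rw [Nat.card_eq_fintype_card]; exact h⟩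
  have hd : p ∣ Nat.card K := by
    rw [hn]
    exact dvd_pow_self p hn0
  have hpos : 0 < Nat.card K := Nat.card_pos
  have h1 : ∀ k : ℕ, ¬ p ∣ 1 + Nat.card K * k := by
    intro k h
    have h2 : p ∣ 1 := (Nat.dvd_add_left (hd.mul_right k)).1 h
    exact hp.out.one_lt.ne' (Nat.dvd_one.1 h2)
  have h2 : ¬ p ∣ Nat.card K - 1 := by
    intro h
    have h3 : p ∣ 1 := by
      have h4 := Nat.dvd_sub hd h
      have h5 : Nat.card K - (Nat.card K - 1) = 1 := by omega
      rwa [h5] at h4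
    exact hp.out.one_lt.ne' (Nat.dvd_one.1 h3)
  have e1 : (1 + Nat.card K) = 1 + Nat.card K * 1 := by ring
  have e2 : (1 + Nat.card K ^ 2) = 1 + Nat.card K * Nat.card K := by ring
  have e3 : (1 + Nat.card K + Nat.card K ^ 2) = 1 + Nat.card K * (1 + Nat.card K) := by ring
  have e4 : (1 + Nat.card K ^ 3) = 1 + Nat.card K * (Nat.card K ^ 2) := by ring
  intro h
  rw [MP] at h
  rcases (hp.out.dvd_mul).1 h with h | h
  · rcases (hp.out.dvd_mul).1 h with h | h
    · rcases (hp.out.dvd_mul).1 h with h | h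
      · rw [e1] at h; exact h1 _ h
      · rcases (hp.out.dvd_mul).1 h with h | h
        · rw [e1] at h; exact h1 _ h
        · rw [e2] at h; exact h1 _ h
    · rcases (hp.out.dvd_mul).1 h with h | h
      · rw [e3] at h; exact h1 _ h
      · rw [e4] at h; exact h1 _ h
  · exact h2 (hp.out.dvd_of_dvd_pow h)

/-- a `p`-subgroup of the centraliser of `u s` has order at most `q^16` -/
theorem card_p_le (p : ℕ) [hp : Fact p.Prime] [CharP K p] (h16 : C16 K) {u s : ↥(chevF4.group K)} (hus : u * s = s * u)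
    (hu1 : u ≠ 1) (hu : u ∈ XT K) (hs1 : s ≠ 1) (hs : (orderOf s).Coprime p) {R : Subgroup ↥(chevF4.group K)}
    (hRp : IsPGroup p ↥R) (hRu : R ≤ Subgroup.centralizer {u}) (hRs : R ≤ Subgroup.centralizer {s}) :
    Nat.card ↥R ≤ Nat.card K ^ 16 := by
  have : Finite ↥(chevF4.group K) := inferInstance
  have RR := rgd (K := K) hF cF p
  have hUp : IsPGroup p ↥(UU K) := RR.isPGroup_of_pos fun _ hx => hx
  have hUu := UU_le_cent p hu
  -- `U` is a Sylow subgroup of `C(u)`
  have hidx : ¬ p ∣ (UU K).relIndex (Subgroup.centralizer {u}) := by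
    intro hd
    apply MP_coprime (K := K) p
    have h1 : (UU K).relIndex (Subgroup.centralizer {u}) ∣ MP (Nat.card K) := by
      have h2 : Nat.card ↥(UU K) * (UU K).relIndex (Subgroup.centralizer {u}) =
          Nat.card ↥(Subgroup.centralizer ({u} : Set ↥(chevF4.group K))) := by
        have h5 := Subgroup.relIndex_mul_relIndex (⊥ : Subgroup ↥(chevF4.group K)) (UU K) _ bot_le hUu
        rwa [Subgroup.relIndex_bot_left, Subgroup.relIndex_bot_left] at h5
      have h3 : Nat.card ↥(Subgroup.centralizer ({u} : Set ↥(chevF4.group K))) ∣ Nat.card K ^ 24 * MP (Nat.card K) := by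
        rw [← card_PK]
        exact Subgroup.card_dvd_of_le (cent_le p hu1 hu)
      rw [← h2, H744.FC.card_U] at h3
      exact Nat.dvd_of_mul_dvd_mul_left (pow_pos Nat.card_pos 24) h3
    exact hd.trans h1
  obtain ⟨c, hc, hcR⟩ := Lib.GoldschmidtFusion.exists_conj_le_in hUp hidx hRu hRp
  rw [Subgroup.mem_centralizer_singleton_iff] at hc
  have hcu : c * u * c⁻¹ = u := by rw [hc, mul_inv_cancel_right]
  -- the conjugate of `s`
  have hs2 : c * s * c⁻¹ ∉ UU K := by
    intro h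
    apply hs1
    have h3 : c * s * c⁻¹ = 1 := by
      refine eq_one_of_isPGroup (k := orderOf s) hUp h ?_ hs
      rw [conj_pow, pow_orderOf_eq_one, mul_one, mul_inv_cancel]
    have h4 : s = c⁻¹ * (c * s * c⁻¹) * c := by group
    rw [h4, h3]
    group
  have hcs : u * (c * s * c⁻¹) = c * s * c⁻¹ * u := by
    have h3 : u * (c * s * c⁻¹) = c * u * c⁻¹ * (c * s * c⁻¹) := by rw [hcu]
    have h4 : c * s * c⁻¹ * u = c * s * c⁻¹ * (c * u * c⁻¹) := by rw [hcu]
    rw [h3, h4]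
    have h5 : c * u * c⁻¹ * (c * s * c⁻¹) = c * (u * s) * c⁻¹ := by group
    have h6 : c * s * c⁻¹ * (c * u * c⁻¹) = c * (s * u) * c⁻¹ := by group
    rw [h5, h6, hus]
  have h7 := h16 (c * s * c⁻¹) u hu1 hu hcs hs2
  have h8 : R.map (MulAut.conj c).toMonoidHom ≤ UU K ⊓ Subgroup.centralizer {c * s * c⁻¹} := by
    refine le_inf hcR ?_
    rintro _ ⟨r, hr, rfl⟩
    have h9 := hRs hr
    rw [Subgroup.mem_centralizer_singleton_iff] at h9 ⊢
    show c * r * c⁻¹ * (c * s * c⁻¹) = c * s * c⁻¹ * (c * r * c⁻¹)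
    have h5 : c * r * c⁻¹ * (c * s * c⁻¹) = c * (r * s) * c⁻¹ := by group
    have h6 : c * s * c⁻¹ * (c * r * c⁻¹) = c * (s * r) * c⁻¹ := by group
    rw [h5, h6, h9]
  have h10 : Nat.card ↥(R.map (MulAut.conj c).toMonoidHom) = Nat.card ↥R :=
    Nat.card_congr (R.equivMapOfInjective (MulAut.conj c).toMonoidHom (MulAut.conj c).injective).symm.toEquiv
  rw [← h10]
  exact (Subgroup.card_le_of_le h8).trans h7

theorem card_mixed (p : ℕ) [hp : Fact p.Prime] [CharP K p] (h16 : C16 K) {u s : ↥(chevF4.group K)}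
    (hus : u * s = s * u) (hu1 : u ≠ 1) (hu : u ∈ XT K) (hs1 : s ≠ 1) (hs : (orderOf s).Coprime p) :
    Nat.card ↥(Subgroup.centralizer ({u * s} : Set ↥(chevF4.group K))) ≤ Nat.card K ^ 16 * MP (Nat.card K) := by
  have : Finite ↥(chevF4.group K) := inferInstance
  obtain ⟨a, ha⟩ : ∃ a, Nat.card K ^ 24 = p ^ a := by
    have := Fintype.ofFinite K
    obtain ⟨n, -, h⟩ := FiniteField.card K p
    exact ⟨n * 24, by rw [Nat.card_eq_fintype_card, h, pow_mul]⟩
  have hcop : (orderOf u).Coprime (orderOf s) := by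
    have h1 : u ^ p = 1 := by
      have C := (coords (K := K) hF cF p).coord _ isRoot_theta
      obtain ⟨c, rfl⟩ := (C.mem _).1 hu
      have key : ∀ k : ℕ, (xc hF (vec chevF4 4 47) c) ^ k = (xc hF (vec chevF4 4 47) ((k : K) * c) : ↥(chevF4.group K)) := by
        intro k
        induction k with
        | zero => rw [pow_zero, Nat.cast_zero, zero_mul, C.zero]
        | succ k ih => rw [pow_succ, ih, Nat.cast_succ, add_mul, one_mul, C.add]
      rw [key, CharP.cast_eq_zero, zero_mul, C.zero]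
    exact (Nat.Coprime.coprime_dvd_right (orderOf_dvd_of_pow_eq_one h1) hs).symm
  have hle := centralizer_mul_le hus hcop
  refine card_le_of_p (p := p) (a := a) _ ?_ ?_ ?_
  · rw [← ha, ← card_PK]
    exact Subgroup.card_dvd_of_le (le_trans (le_trans hle inf_le_left) (cent_le p hu1 hu))
  · exact Nat.pos_of_ne_zero fun h => MP_coprime (K := K) p (by rw [h]; exact dvd_zero p)
  · intro R hR hRp
    have hR' := le_trans hR hle
    exact card_p_le p h16 hus hu1 hu hs1 hs hRp (le_trans hR' inf_le_left) (le_trans hR' inf_le_right)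

/-- **The mixed elements, with the factor 10.** -/
theorem mixed10_of {p : ℕ} [hp : Fact p.Prime] [CharP K p] (hq : Nat.card K = 5 ∨ Nat.card K = 7 ∨ Nat.card K = 17)
    (h16 : C16 K) : ∀ u s : ↥(chevF4.group K), u * s = s * u → u ≠ 1 → u ∈ XT K → s ≠ 1 → (orderOf s).Coprime p →
      10 * Nat.card ↥(Subgroup.centralizer ({u * s} : Set ↥(chevF4.group K))) < d2 (Nat.card K) ^ 2 := by
  intro u s hus hu1 hu hs1 hs
  have h1 := card_mixed p h16 hus hu1 hu hs1 hs
  refine lt_of_le_of_lt (Nat.mul_le_mul_left 10 h1) ?_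
  rcases hq with h | h | h <;> rw [h, MP, d2] <;> norm_num

/-- **The mixed elements.** -/
theorem mixed_of {p : ℕ} [hp : Fact p.Prime] [CharP K p] (hq : Nat.card K = 5 ∨ Nat.card K = 7 ∨ Nat.card K = 17)
    (h16 : C16 K) : Mixed K p := by
  intro u s hus hu1 hu hs1 hs
  have h1 := mixed10_of (p := p) hq h16 u s hus hu1 hu hs1 hs
  omega

end Cfsg.Agent.H962.FC
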